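import Cfsg.Agent.Spor.C3Sa.L.D0

set_option autoImplicit false
set_option maxRecDepth 100000000
set_option Elab.async false

namespace Cfsg.Agent.Spor.C3Sa.L

theorem uok8 : Net.okb 6 un8 = true := by decide +kernel

theorem rel3 : U.rel 6 [17, 7, 5] 0 6 = true := by decide +kernel

theorem uok9 : Net.okb 6 un9 = true := by decide +kernel

theorem rel4 : U.rel 6 [19, 8, 6] 0 6 = true := by decide +kernel

theorem uok10 : Net.okb 6 un10 = true := by decide +kernel

theorem rel5 : U.rel 6 [21, 1, 7, 5, 2] 0 6 = true := by decide +kernel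

theorem uok11 : Net.okb 6 un11 = true := by decide +kernel

theorem rel6 : U.rel 6 [23, 2, 7, 5, 1] 0 6 = true := by decide +kernel

theorem uok12 : Net.okb 6 un12 = true := by decide +kernel

theorem rel7 : U.rel 6 [25, 9, 7, 4, 10, 11, 2, 7, 10, 6, 4, 8, 2, 6, 12, 7, 10, 6, 1, 7, 4, 10] 0 6 = true := by decide +kernel

theorem rel8 : U.rel 6 [20, 18, 14, 17, 13] 0 6 = true := by decide +kernel

theorem rel9 : U.rel 6 [20, 14, 19, 13] 0 6 = true := by decide +kernel

theorem rel10 : U.rel 6 [22, 20, 14, 21, 13] 0 6 = true := by decide +kernel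

theorem rel11 : U.rel 6 [24, 20, 14, 23, 13] 0 6 = true := by decide +kernel

theorem rel12 : U.rel 6 [26, 20, 14, 25, 13] 0 6 = true := by decide +kernel

theorem rel13 : U.rel 6 [22, 16, 17, 15] 0 6 = true := by decide +kernel

theorem rel14 : U.rel 6 [20, 16, 19, 15] 0 6 = true := by decide +kernel

theorem rel15 : U.rel 6 [18, 16, 21, 15] 0 6 = true := by decide +kernel

theorem rel16 : U.rel 6 [26, 16, 23, 15] 0 6 = true := by decide +kernel

theorem rel17 : U.rel 6 [24, 16, 25, 15] 0 6 = true := by decide +kernel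

theorem rel18 : U.rel 6 [20, 2, 19, 1] 0 6 = true := by decide +kernel

theorem rel19 : U.rel 6 [22, 2, 23, 1] 0 6 = true := by decide +kernel

theorem rel20 : U.rel 6 [26, 2, 25, 1] 0 6 = true := by decide +kernel

theorem rel21 : U.rel 6 [20, 8, 17, 7] 0 6 = true := by decide +kernel

theorem rel22 : U.rel 6 [20, 18, 8, 19, 7] 0 6 = true := by decide +kernel

theorem rel23 : U.rel 6 [22, 20, 8, 21, 7] 0 6 = true := by decide +kernel

theorem rel24 : U.rel 6 [24, 20, 8, 23, 7] 0 6 = true := by decide +kernel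

theorem rel25 : U.rel 6 [26, 20, 8, 25, 7] 0 6 = true := by decide +kernel

theorem rel26 : U.rel 6 [20, 18, 19, 17] 0 6 = true := by decide +kernel

theorem rel27 : U.rel 6 [22, 18, 21, 17] 0 6 = true := by decide +kernel

theorem rel28 : U.rel 6 [24, 18, 23, 17] 0 6 = true := by decide +kernel

theorem rel29 : U.rel 6 [26, 18, 25, 17] 0 6 = true := by decide +kernel

theorem rel30 : U.rel 6 [22, 20, 21, 19] 0 6 = true := by decide +kernel

theorem rel31 : U.rel 6 [24, 20, 23, 19] 0 6 = true := by decide +kernel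

theorem rel32 : U.rel 6 [26, 20, 25, 19] 0 6 = true := by decide +kernel

theorem rel33 : U.rel 6 [24, 22, 23, 21] 0 6 = true := by decide +kernel

theorem rel34 : U.rel 6 [26, 22, 25, 21] 0 6 = true := by decide +kernel

theorem rel35 : U.rel 6 [26, 24, 25, 23] 0 6 = true := by decide +kernel

theorem uok13 : Net.okb 6 un13 = true := by decide +kernel

theorem rel36 : U.rel 6 [27, 5, 7, 11, 1, 7, 1, 1, 7, 1, 7, 5, 3, 3, 5, 5, 7, 7, 3, 5, 5, 7, 9, 9, 7, 7, 3, 9, 9, 1, 7, 1, 3, 1, 1, 3, 5, 9] 0 6 = true := by decide +kernel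

theorem uok14 : Net.okb 6 un14 = true := by decide +kernel

theorem rel37 : U.rel 6 [29, 3, 1, 1, 1, 7, 5, 9, 3, 9, 11, 11, 5, 1, 9, 1, 7, 7, 11, 3, 9, 3, 3, 5, 9, 5, 3, 9, 5, 7, 7, 5, 7, 11, 11, 11, 3, 9, 7, 1, 3, 5, 9, 11] 0 6 = true := by decide +kernel

theorem gr39 : sub M38 (U.growI W1 [4, 5, 5, 3, 2, 1, 0, 0, 1, 2, 3, 4, 5, 3, 2, 1, 0] (Nat.shiftLeft 1 0)) = true := by decide +kernel

theorem cl41 : band (U.closedW W1 M38) (sub (Nat.shiftLeft 1 0) M38) = true := by decide +kernel

theorem sz42 : sizeOk 6 M38 63 = true := by decide +kernel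

theorem fx45 : U.closedW W44 (Nat.shiftLeft 1 0) = true := by decide +kernel

theorem uok15 : Net.okb 6 un15 = true := by decide +kernel

theorem rel46 : U.rel 6 [31, 29, 27, 27, 27, 27, 27, 27, 29, 29, 27] 0 6 = true := by decide +kernel

theorem uok16 : Net.okb 6 un16 = true := by decide +kernel

theorem rel47 : U.rel 6 [33, 29, 27, 27, 27, 29, 29, 27, 29] 0 6 = true := by decide +kernel

theorem gr49 : sub M48 (U.growI W44 [0, 1, 1, 0, 0, 1, 1, 0] (Nat.shiftLeft 1 1)) = true := by decide +kernel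

theorem cl51 : band (U.closedW W44 M48) (sub (Nat.shiftLeft 1 1) M48) = true := by decide +kernel

theorem sz52 : sizeOk 6 M48 32 = true := by decide +kernel

theorem fx55 : U.closedW W54 (Nat.shiftLeft 1 1) = true := by decide +kernel

theorem uok17 : Net.okb 6 un17 = true := by decide +kernel

theorem rel56 : U.rel 6 [35, 33, 33, 31, 33, 31, 31, 31, 33] 0 6 = true := by decide +kernel

theorem uok18 : Net.okb 6 un18 = true := by decide +kernel

theorem rel57 : U.rel 6 [37, 33, 33, 31, 33, 33, 31, 31, 33, 31, 33, 33, 31, 31, 31, 31, 33, 33, 33, 33, 33, 31, 31, 31, 33, 33] 0 6 = true := by decide +kernel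

theorem gr59 : sub M58 (U.growI W54 [0, 1, 1, 0, 0, 1, 1] (Nat.shiftLeft 1 2)) = true := by decide +kernel

theorem cl61 : band (U.closedW W54 M58) (sub (Nat.shiftLeft 1 2) M58) = true := by decide +kernel

theorem sz62 : sizeOk 6 M58 15 = true := by decide +kernel

theorem fx65 : U.closedW W64 (Nat.shiftLeft 1 2) = true := by decide +kernel

theorem uok19 : Net.okb 6 un19 = true := by decide +kernel

theorem rel66 : U.rel 6 [39, 37, 37, 37, 37, 35, 37, 37, 37, 35, 37, 35, 35, 35, 37, 37, 37, 37, 37, 35, 37, 37, 35, 35, 37, 37, 35] 0 6 = true := by decide +kernel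

theorem uok20 : Net.okb 6 un20 = true := by decide +kernel

theorem rel67 : U.rel 6 [41, 35, 37, 37, 35, 35, 37, 35, 37, 35, 37, 35, 37, 37, 37, 35, 35, 35, 35, 35, 37, 37, 37, 37, 35, 35, 35, 35, 37, 35, 35, 35, 37] 0 6 = true := by decide +kernel

theorem gr69 : sub M68 (U.growI W64 [0, 1, 1, 0] (Nat.shiftLeft 1 4)) = true := by decide +kernel

theorem cl71 : band (U.closedW W64 M68) (sub (Nat.shiftLeft 1 4) M68) = true := by decide +kernel

theorem sz72 : sizeOk 6 M68 8 = true := by decide +kernel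

theorem fx75 : U.closedW W74 (Nat.shiftLeft 1 4) = true := by decide +kernel

theorem gr77 : sub M76 (U.growI W74 [1, 1] (Nat.shiftLeft 1 5)) = true := by decide +kernel

theorem cl79 : band (U.closedW W74 M76) (sub (Nat.shiftLeft 1 5) M76) = true := by decide +kernel

theorem sz80 : sizeOk 6 M76 3 = true := by decide +kernel

theorem fx83 : U.closedW W82 (Nat.shiftLeft 1 5) = true := by decide +kernel

theorem gr85 : sub M84 (U.growI W82 [0] (Nat.shiftLeft 1 12)) = true := by decide +kernel

theorem cl87 : band (U.closedW W82 M84) (sub (Nat.shiftLeft 1 12) M84) = true := by decide +kernel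

theorem sz88 : sizeOk 6 M84 2 = true := by decide +kernel

end Cfsg.Agent.Spor.C3Sa.L
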