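import Cfsg.Agent.Spor.Prim
import Cfsg.Agent.Spor.C3Sa.Main
import Cfsg.Agent.Spor.C3Sa.L.C0
import Cfsg.Agent.Spor.TT2

set_option autoImplicit false
set_option maxRecDepth 100000000
set_option Elab.async false

namespace Cfsg.Agent.Spor.C3Sa.L

theorem hU : U.Ok 6 := U.ok_of 6 (show AllP (fun n => Net.okb 6 n = true) [n0, n1, n2, n3, n4, n5, n6, n7, un8, un9, un10, un11, un12, un13, un14, un15, un16, un17, un18, un19, un20] from AllP.cons ok0 (AllP.cons ok1 (AllP.cons ok2 (AllP.cons ok3 (AllP.cons ok4 (AllP.cons ok5 (AllP.cons ok6 (AllP.cons ok7 (AllP.cons uok8 (AllP.cons uok9 (AllP.cons uok10 (AllP.cons uok11 (AllP.cons uok12 (AllP.cons uok13 (AllP.cons uok14 (AllP.cons uok15 (AllP.cons uok16 (AllP.cons uok17 (AllP.cons uok18 (AllP.cons uok19 (AllP.cons uok20 (AllP.nil))))))))))))))))))))))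

theorem hfP : ∀ j < 6, U.fP [1, 3, 5, 7, 9, 11] j = fP j := by
  intro j hj
  interval_cases j <;> rfl
theorem eG : gsub 6 fP = U.lsub W1 := (gsub_congr hfP).symm.trans (lsub_eq_gsub U [1, 3, 5, 7, 9, 11])
theorem upz1 : ev (atm 6 fP) [0] = U.τ 1 := pz1
theorem upz3 : ev (atm 6 fP) [2] = U.τ 3 := pz2
theorem upz5 : ev (atm 6 fP) [4] = U.τ 5 := pz3
theorem upz7 : ev (atm 6 fP) [6] = U.τ 7 := pz4
theorem upz9 : ev (atm 6 fP) [8] = U.τ 9 := pz5
theorem upz11 : ev (atm 6 fP) [10] = U.τ 11 := pz6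
theorem upz13 : ev (atm 6 fP) [11, 9] = U.τ 13 := pz13
theorem upz15 : ev (atm 6 fP) [9, 3, 11, 6, 5, 10, 6, 2, 8] = U.τ 15 := pz15
theorem eH : wsub 6 fP BW = U.lsub W2 :=
  lsub_eq_of_all₂ (show List.Forall₂ _ [[11, 9], [9, 3, 11, 6, 5, 10, 6, 2, 8], [0], [6]] [[13], [15], [1], [7]] from List.Forall₂.cons (upz13.trans (one_mul _).symm) (List.Forall₂.cons (upz15.trans (one_mul _).symm) (List.Forall₂.cons (upz1.trans (one_mul _).symm) (List.Forall₂.cons (upz7.trans (one_mul _).symm) (List.Forall₂.nil)))))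
theorem vpz1 : PZ U (atm 6 fP) EXU 1 := pz1
theorem vpz2 : PZ U (atm 6 fP) EXU 2 := PZ.of_inv hiv vpz1 (by decide +kernel)
theorem vpz3 : PZ U (atm 6 fP) EXU 3 := pz2
theorem vpz4 : PZ U (atm 6 fP) EXU 4 := PZ.of_inv hiv vpz3 (by decide +kernel)
theorem vpz5 : PZ U (atm 6 fP) EXU 5 := pz3
theorem vpz6 : PZ U (atm 6 fP) EXU 6 := PZ.of_inv hiv vpz5 (by decide +kernel)
theorem vpz7 : PZ U (atm 6 fP) EXU 7 := pz4
theorem vpz8 : PZ U (atm 6 fP) EXU 8 := PZ.of_inv hiv vpz7 (by decide +kernel)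
theorem vpz9 : PZ U (atm 6 fP) EXU 9 := pz5
theorem vpz10 : PZ U (atm 6 fP) EXU 10 := PZ.of_inv hiv vpz9 (by decide +kernel)
theorem vpz11 : PZ U (atm 6 fP) EXU 11 := pz6
theorem vpz12 : PZ U (atm 6 fP) EXU 12 := PZ.of_inv hiv vpz11 (by decide +kernel)
theorem vpz13 : PZ U (atm 6 fP) EXU 13 := pz13
theorem vpz14 : PZ U (atm 6 fP) EXU 14 := PZ.of_inv hiv vpz13 (by decide +kernel)
theorem vpz15 : PZ U (atm 6 fP) EXU 15 := pz15
theorem vpz16 : PZ U (atm 6 fP) EXU 16 := PZ.of_inv hiv vpz15 (by decide +kernel)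
theorem vpz17 : PZ U (atm 6 fP) EXU 17 := PZ.of_def hiv (d := [7, 5]) (AllP.cons vpz7 (AllP.cons vpz5 (AllP.nil))) (hU.one rel3) (by decide +kernel)
theorem vpz18 : PZ U (atm 6 fP) EXU 18 := PZ.of_inv hiv vpz17 (by decide +kernel)
theorem vpz19 : PZ U (atm 6 fP) EXU 19 := PZ.of_def hiv (d := [8, 6]) (AllP.cons vpz8 (AllP.cons vpz6 (AllP.nil))) (hU.one rel4) (by decide +kernel)
theorem vpz20 : PZ U (atm 6 fP) EXU 20 := PZ.of_inv hiv vpz19 (by decide +kernel)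
theorem vpz21 : PZ U (atm 6 fP) EXU 21 := PZ.of_def hiv (d := [1, 7, 5, 2]) (AllP.cons vpz1 (AllP.cons vpz7 (AllP.cons vpz5 (AllP.cons vpz2 (AllP.nil))))) (hU.one rel5) (by decide +kernel)
theorem vpz22 : PZ U (atm 6 fP) EXU 22 := PZ.of_inv hiv vpz21 (by decide +kernel)
theorem vpz23 : PZ U (atm 6 fP) EXU 23 := PZ.of_def hiv (d := [2, 7, 5, 1]) (AllP.cons vpz2 (AllP.cons vpz7 (AllP.cons vpz5 (AllP.cons vpz1 (AllP.nil))))) (hU.one rel6) (by decide +kernel)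
theorem vpz24 : PZ U (atm 6 fP) EXU 24 := PZ.of_inv hiv vpz23 (by decide +kernel)
theorem vpz25 : PZ U (atm 6 fP) EXU 25 := PZ.of_def hiv (d := [9, 7, 4, 10, 11, 2, 7, 10, 6, 4, 8, 2, 6, 12, 7, 10, 6, 1, 7, 4, 10]) (AllP.cons vpz9 (AllP.cons vpz7 (AllP.cons vpz4 (AllP.cons vpz10 (AllP.cons vpz11 (AllP.cons vpz2 (AllP.cons vpz7 (AllP.cons vpz10 (AllP.cons vpz6 (AllP.cons vpz4 (AllP.cons vpz8 (AllP.cons vpz2 (AllP.cons vpz6 (AllP.cons vpz12 (AllP.cons vpz7 (AllP.cons vpz10 (AllP.cons vpz6 (AllP.cons vpz1 (AllP.cons vpz7 (AllP.cons vpz4 (AllP.cons vpz10 (AllP.nil)))))))))))))))))))))) (hU.one rel7) (by decide +kernel)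
theorem vpz26 : PZ U (atm 6 fP) EXU 26 := PZ.of_inv hiv vpz25 (by decide +kernel)
theorem hPZU : AllP (PZ U (atm 6 fP) EXU) LU :=
  show AllP (PZ U (atm 6 fP) EXU) [1, 2, 3, 4, 5, 6, 7, 8, 9, 10, 11, 12, 13, 14, 15, 16, 17, 18, 19, 20, 21, 22, 23, 24, 25, 26] from AllP.cons vpz1 (AllP.cons vpz2 (AllP.cons vpz3 (AllP.cons vpz4 (AllP.cons vpz5 (AllP.cons vpz6 (AllP.cons vpz7 (AllP.cons vpz8 (AllP.cons vpz9 (AllP.cons vpz10 (AllP.cons vpz11 (AllP.cons vpz12 (AllP.cons vpz13 (AllP.cons vpz14 (AllP.cons vpz15 (AllP.cons vpz16 (AllP.cons vpz17 (AllP.cons vpz18 (AllP.cons vpz19 (AllP.cons vpz20 (AllP.cons vpz21 (AllP.cons vpz22 (AllP.cons vpz23 (AllP.cons vpz24 (AllP.cons vpz25 (AllP.cons vpz26 (AllP.nil))))))))))))))))))))))))))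
theorem hXN : ∀ l ∈ XN, ev (atm 6 fP) l = 1 :=
  relAll_sound hiv (W := [[20, 18, 14, 17, 13], [20, 14, 19, 13], [22, 20, 14, 21, 13], [24, 20, 14, 23, 13], [26, 20, 14, 25, 13], [22, 16, 17, 15], [20, 16, 19, 15], [18, 16, 21, 15], [26, 16, 23, 15], [24, 16, 25, 15], [20, 2, 19, 1], [22, 2, 23, 1], [26, 2, 25, 1], [20, 8, 17, 7], [20, 18, 8, 19, 7], [22, 20, 8, 21, 7], [24, 20, 8, 23, 7], [26, 20, 8, 25, 7], [20, 18, 19, 17], [22, 18, 21, 17], [24, 18, 23, 17], [26, 18, 25, 17], [22, 20, 21, 19], [24, 20, 23, 19], [26, 20, 25, 19], [24, 22, 23, 21], [26, 22, 25, 21], [26, 24, 25, 23]]) (rules := [⟨[20, 18, 14, 17, 13], [], 0, true⟩, ⟨[20, 14, 19, 13], [], 1, true⟩, ⟨[22, 20, 14, 21, 13], [], 2, true⟩, ⟨[24, 20, 14, 23, 13], [], 3, true⟩, ⟨[26, 20, 14, 25, 13], [], 4, true⟩, ⟨[22, 16, 17, 15], [], 5, true⟩, ⟨[20, 16, 19, 15], [], 6, true⟩, ⟨[18, 16, 21, 15], [], 7, true⟩, ⟨[26, 16, 23,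 15], [], 8, true⟩, ⟨[24, 16, 25, 15], [], 9, true⟩, ⟨[20, 2, 19, 1], [], 10, true⟩, ⟨[22, 2, 23, 1], [], 11, true⟩, ⟨[26, 2, 25, 1], [], 12, true⟩, ⟨[20, 8, 17, 7], [], 13, true⟩, ⟨[20, 18, 8, 19, 7], [], 14, true⟩, ⟨[22, 20, 8, 21, 7], [], 15, true⟩, ⟨[24, 20, 8, 23, 7], [], 16, true⟩, ⟨[26, 20, 8, 25, 7], [], 17, true⟩, ⟨[20, 18, 19, 17], [], 18, true⟩, ⟨[22, 18, 21, 17], [], 19, true⟩, ⟨[24, 18, 23, 17], [], 20, true⟩, ⟨[26, 18, 25, 17], [], 21, true⟩, ⟨[22, 20, 21, 19], [], 22, true⟩, ⟨[24, 20, 23, 19], [], 23, true⟩, ⟨[26, 20, 25, 19], [], 24, true⟩, ⟨[24, 22, 23, 21], [], 25, true⟩, ⟨[26, 22, 25, 21], [], 26, true⟩, ⟨[26, 24, 25, 23], [], 27, true⟩]) hPZU (AllP.cons (hU.one rel8) (AllP.cons (hU.one rel9) (AllP.cons (hU.one rel10) (AllP.cons (hU.one rel11) (AllP.cons (hU.one rel12) (AllP.cons (hU.one rel13) (AllP.cons (hU.one rel14) (AllP.cons (hU.one rel15) (AllP.cons (hU.one rel16)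 (AllP.cons (hU.one rel17) (AllP.cons (hU.one rel18) (AllP.cons (hU.one rel19) (AllP.cons (hU.one rel20) (AllP.cons (hU.one rel21) (AllP.cons (hU.one rel22) (AllP.cons (hU.one rel23) (AllP.cons (hU.one rel24) (AllP.cons (hU.one rel25) (AllP.cons (hU.one rel26) (AllP.cons (hU.one rel27) (AllP.cons (hU.one rel28) (AllP.cons (hU.one rel29) (AllP.cons (hU.one rel30) (AllP.cons (hU.one rel31) (AllP.cons (hU.one rel32) (AllP.cons (hU.one rel33) (AllP.cons (hU.one rel34) (AllP.cons (hU.one rel35) (AllP.nil))))))))))))))))))))))))))))) (by decide +kernel)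
theorem reach40 : Reach (U.lsub W1) 0 M38 := (Reach.grow hU (Reach.base _ 0) gr39)
theorem orb43 : (orbS (U.lsub W1) 0).ncard = 63 := reach40.ncard hU cl41 sz42
theorem orb43e : orbS (U.lsub W1) 0 = {c | Nat.testBit M38 c = true} := reach40.orb hU cl41
theorem reach50 : Reach (U.lsub W44) 1 M48 := (Reach.grow hU (Reach.base _ 1) gr49)
theorem orb53 : (orbS (U.lsub W44) 1).ncard = 32 := reach50.ncard hU cl51 sz52
theorem orb53e : orbS (U.lsub W44) 1 = {c | Nat.testBit M48 c = true} := reach50.orb hU cl51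
theorem reach60 : Reach (U.lsub W54) 2 M58 := (Reach.grow hU (Reach.base _ 2) gr59)
theorem orb63 : (orbS (U.lsub W54) 2).ncard = 15 := reach60.ncard hU cl61 sz62
theorem orb63e : orbS (U.lsub W54) 2 = {c | Nat.testBit M58 c = true} := reach60.orb hU cl61
theorem reach70 : Reach (U.lsub W64) 4 M68 := (Reach.grow hU (Reach.base _ 4) gr69)
theorem orb73 : (orbS (U.lsub W64) 4).ncard = 8 := reach70.ncard hU cl71 sz72
theorem orb73e : orbS (U.lsub W64) 4 = {c | Nat.testBit M68 c = true} := reach70.orb hU cl71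
theorem reach78 : Reach (U.lsub W74) 5 M76 := (Reach.grow hU (Reach.base _ 5) gr77)
theorem orb81 : (orbS (U.lsub W74) 5).ncard = 3 := reach78.ncard hU cl79 sz80
theorem orb81e : orbS (U.lsub W74) 5 = {c | Nat.testBit M76 c = true} := reach78.orb hU cl79
theorem reach86 : Reach (U.lsub W82) 12 M84 := (Reach.grow hU (Reach.base _ 12) gr85)
theorem orb89 : (orbS (U.lsub W82) 12).ncard = 2 := reach86.ncard hU cl87 sz88
theorem orb89e : orbS (U.lsub W82) 12 = {c | Nat.testBit M84 c = true} := reach86.orb hU cl87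
theorem lb90 : 2 ∣ Nat.card (U.lsub W82) := dvd_card_orb orb89
theorem lb91 : 6 ∣ Nat.card (U.lsub W74) :=
  dvd_card_step (s := 3) (M := 2) (B := U.lsub W82) (U.lsub_sub (by decide)) (hU.fixes fx83) orb81 lb90
theorem lb92 : 48 ∣ Nat.card (U.lsub W64) :=
  dvd_card_step (s := 8) (M := 6) (B := U.lsub W74) (Tab.lsub_le_all (AllP.cons (mem_of_rel (hU.one rel66) (U.mem_letters (by decide))) (AllP.cons (mem_of_rel (hU.one rel67) (U.mem_letters (by decide))) (AllP.nil)))) (hU.fixes fx75) orb73 lb91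
theorem lb93 : 720 ∣ Nat.card (U.lsub W54) :=
  dvd_card_step (s := 15) (M := 48) (B := U.lsub W64) (Tab.lsub_le_all (AllP.cons (mem_of_rel (hU.one rel56) (U.mem_letters (by decide))) (AllP.cons (mem_of_rel (hU.one rel57) (U.mem_letters (by decide))) (AllP.nil)))) (hU.fixes fx65) orb63 lb92
theorem lb94 : 23040 ∣ Nat.card (U.lsub W44) :=
  dvd_card_step (s := 32) (M := 720) (B := U.lsub W54) (Tab.lsub_le_all (AllP.cons (mem_of_rel (hU.one rel46) (U.mem_letters (by decide))) (AllP.cons (mem_of_rel (hU.one rel47) (U.mem_letters (by decide))) (AllP.nil)))) (hU.fixes fx55) orb53 lb93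
theorem lb : 1451520 ∣ Nat.card (U.lsub W1) :=
  dvd_card_step (s := 63) (M := 23040) (B := U.lsub W44) (Tab.lsub_le_all (AllP.cons (mem_of_rel (hU.one rel36) (U.mem_letters (by decide))) (AllP.cons (mem_of_rel (hU.one rel37) (U.mem_letters (by decide))) (AllP.nil)))) (hU.fixes fx45) orb43 lb94

end Cfsg.Agent.Spor.C3Sa.L
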