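import Cfsg.Agent.Spor.Chk2
import Cfsg.Agent.Spor.C3Sa.D0

set_option autoImplicit false
set_option maxRecDepth 100000000
set_option Elab.async false
noncomputable section

namespace Cfsg.Agent.Spor.C3Sa.L

def W1 : List (List Nat) := [[1], [3], [5], [7], [9], [11]]

def W2 : List (List Nat) := [[13], [15], [1], [7]]

def um8_0 : Nat := nat_lit 0x2808840
def um8_1 : Nat := nat_lit 0xa8400009062
def um8_2 : Nat := nat_lit 0x92000300820092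
def um8_3 : Nat := nat_lit 0xc03030800020004
def um8_4 : Nat := nat_lit 0x1000210321310002
def um8_5 : Nat := nat_lit 0x104004504045140
def um8_6 : Nat := nat_lit 0x1010000
def um8_7 : Nat := nat_lit 0x400030802000400
def um8_8 : Nat := nat_lit 0x92000300200056
def um8_9 : Nat := nat_lit 0xa8400008062
def um8_10 : Nat := nat_lit 0x2808840
def un8 : Net := Net.cons 32 um8_0 (Net.cons 16 um8_1 (Net.cons 8 um8_2 (Net.cons 4 um8_3 (Net.cons 2 um8_4 (Net.cons 1 um8_5 (Net.cons 2 um8_6 (Net.cons 4 um8_7 (Net.cons 8 um8_8 (Net.cons 16 um8_9 (Net.cons 32 um8_10 (Net.nil)))))))))))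

def um9_0 : Nat := nat_lit 0xa0040806
def um9_1 : Nat := nat_lit 0xa01c000004f2
def um9_2 : Nat := nat_lit 0x880048001600e7
def um9_3 : Nat := nat_lit 0x2020a0901080602
def um9_4 : Nat := nat_lit 0x2120010001231103
def um9_5 : Nat := nat_lit 0x44441101144145
def um9_6 : Nat := nat_lit 0x12010100000110
def um9_7 : Nat := nat_lit 0x20c080101030206
def um9_8 : Nat := nat_lit 0x88004800000011
def um9_9 : Nat := nat_lit 0xa00a000004f2
def um9_10 : Nat := nat_lit 0xa0040806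
def un9 : Net := Net.cons 32 um9_0 (Net.cons 16 um9_1 (Net.cons 8 um9_2 (Net.cons 4 um9_3 (Net.cons 2 um9_4 (Net.cons 1 um9_5 (Net.cons 2 um9_6 (Net.cons 4 um9_7 (Net.cons 8 um9_8 (Net.cons 16 um9_9 (Net.cons 32 um9_10 (Net.nil)))))))))))

def um10_0 : Nat := nat_lit 0x9068040
def um10_1 : Nat := nat_lit 0x40160000a0c0
def um10_2 : Nat := nat_lit 0x89000100a7008a
def um10_3 : Nat := nat_lit 0xa060a0402050806
def um10_4 : Nat := nat_lit 0x211221001300331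
def um10_5 : Nat := nat_lit 0x4404000511115501
def um10_6 : Nat := nat_lit 0x2001000021010001
def um10_7 : Nat := nat_lit 0x404000400000806
def um10_8 : Nat := nat_lit 0x8900010011008a
def um10_9 : Nat := nat_lit 0x40020000a0c0
def um10_10 : Nat := nat_lit 0x9068040
def un10 : Net := Net.cons 32 um10_0 (Net.cons 16 um10_1 (Net.cons 8 um10_2 (Net.cons 4 um10_3 (Net.cons 2 um10_4 (Net.cons 1 um10_5 (Net.cons 2 um10_6 (Net.cons 4 um10_7 (Net.cons 8 um10_8 (Net.cons 16 um10_9 (Net.cons 32 um10_10 (Net.nil)))))))))))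

def um11_0 : Nat := nat_lit 0x45362b29
def um11_1 : Nat := nat_lit 0x1000004690
def um11_2 : Nat := nat_lit 0x80005c00160090
def um11_3 : Nat := nat_lit 0x201050b0300020f
def um11_4 : Nat := nat_lit 0x2003330130311322
def um11_5 : Nat := nat_lit 0x50051514014
def um11_6 : Nat := nat_lit 0x11011
def um11_7 : Nat := nat_lit 0x201050103000200
def um11_8 : Nat := nat_lit 0x80005c00160090
def um11_9 : Nat := nat_lit 0x1000004690
def um11_10 : Nat := nat_lit 0x5362b29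
def un11 : Net := Net.cons 32 um11_0 (Net.cons 16 um11_1 (Net.cons 8 um11_2 (Net.cons 4 um11_3 (Net.cons 2 um11_4 (Net.cons 1 um11_5 (Net.cons 2 um11_6 (Net.cons 4 um11_7 (Net.cons 8 um11_8 (Net.cons 16 um11_9 (Net.cons 32 um11_10 (Net.nil)))))))))))

def um12_0 : Nat := nat_lit 0x400c07ae
def um12_1 : Nat := nat_lit 0x208e00008040
def um12_2 : Nat := nat_lit 0x45001400820086
def um12_3 : Nat := nat_lit 0x50a010602080f08
def um12_4 : Nat := nat_lit 0x2310010011110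
def um12_5 : Nat := nat_lit 0x411500040411140
def um12_6 : Nat := nat_lit 0x20000010111100
def um12_7 : Nat := nat_lit 0x401010000080008
def um12_8 : Nat := nat_lit 0x41001400820086
def um12_9 : Nat := nat_lit 0x208e00000018
def um12_10 : Nat := nat_lit 0xc05ae
def un12 : Net := Net.cons 32 um12_0 (Net.cons 16 um12_1 (Net.cons 8 um12_2 (Net.cons 4 um12_3 (Net.cons 2 um12_4 (Net.cons 1 um12_5 (Net.cons 2 um12_6 (Net.cons 4 um12_7 (Net.cons 8 um12_8 (Net.cons 16 um12_9 (Net.cons 32 um12_10 (Net.nil)))))))))))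

def EXU : List (List Nat) := [[], [0], [1], [2], [3], [4], [5], [6], [7], [8], [9], [10], [11], [11, 9], [8, 10], [9, 3, 11, 6, 5, 10, 6, 2, 8], [9, 3, 7, 11, 4, 7, 10, 2, 8], [7, 5], [4, 6], [6, 4], [5, 7], [1, 7, 5, 0], [1, 4, 6, 0], [0, 7, 5, 1], [0, 4, 6, 1], [9, 7, 2, 8, 11, 0, 7, 8, 4, 2, 6, 0, 4, 10, 7, 8, 4, 1, 7, 2, 8], [9, 3, 6, 0, 5, 9, 6, 11, 5, 1, 7, 3, 5, 9, 6, 1, 10, 9, 3, 6, 8]]
def LU : List Nat := [1, 2, 3, 4, 5, 6, 7, 8, 9, 10, 11, 12, 13, 14, 15, 16, 17, 18, 19, 20, 21, 22, 23, 24, 25, 26]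

def XN : List (List Nat) := [[11, 9, 7, 5, 8, 10, 4, 6, 5, 7], [11, 9, 6, 4, 8, 10, 5, 7], [11, 9, 1, 7, 5, 0, 8, 10, 5, 7, 1, 4, 6, 0], [11, 9, 0, 7, 5, 1, 8, 10, 5, 7, 0, 4, 6, 1], [11, 9, 9, 7, 2, 8, 11, 0, 7, 8, 4, 2, 6, 0, 4, 10, 7, 8, 4, 1, 7, 2, 8, 8, 10, 5, 7, 9, 3, 6, 0, 5, 9, 6, 11, 5, 1, 7, 3, 5, 9, 6, 1, 10, 9, 3, 6, 8], [9, 3, 11, 6, 5, 10, 6, 2, 8, 7, 5, 9, 3, 7, 11, 4, 7, 10, 2, 8, 1, 4, 6, 0], [9, 3, 11, 6, 5, 10, 6, 2, 8, 6, 4, 9, 3, 7, 11, 4, 7, 10, 2, 8, 5, 7], [9, 3, 11, 6, 5, 10, 6, 2, 8, 1, 7, 5, 0, 9, 3, 7, 11, 4, 7, 10, 2, 8, 4, 6], [9, 3, 11, 6, 5, 10, 6, 2, 8, 0, 7, 5, 1, 9, 3, 7, 11, 4, 7, 10, 6, 0, 5, 9, 6, 11, 5, 1, 7, 3, 5, 9, 6, 1, 10, 9, 3, 6, 8], [9, 3, 11, 6, 5, 10, 6, 2, 7, 2, 8, 11, 0, 7, 8, 4, 2, 6, 0, 4, 10, 7, 8, 4, 1, 7, 7, 11, 4, 7, 10, 2, 8, 0, 4, 6, 1], [0, 6, 4, 1, 5, 7], [0, 0, 7, 5, 1, 1, 1, 4, 6, 0], [0, 9, 7, 2,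 8, 11, 0, 7, 8, 4, 2, 6, 0, 4, 10, 7, 8, 4, 1, 7, 2, 8, 1, 9, 3, 6, 0, 5, 9, 6, 11, 5, 1, 7, 3, 5, 9, 6, 1, 10, 9, 3, 6, 8], [5, 7, 5, 7], [6, 6, 4, 7, 4, 6, 5, 7], [6, 1, 7, 5, 0, 7, 5, 7, 1, 4, 6, 0], [6, 0, 7, 5, 1, 7, 5, 7, 0, 4, 6, 1], [6, 9, 7, 2, 8, 11, 0, 7, 8, 4, 2, 6, 0, 4, 10, 7, 8, 4, 1, 7, 2, 8, 7, 5, 7, 9, 3, 6, 0, 5, 9, 6, 11, 5, 1, 7, 3, 5, 9, 6, 1, 10, 9, 3, 6, 8], [7, 5, 6, 4, 4, 6, 5, 7], [7, 5, 1, 7, 5, 0, 4, 6, 1, 4, 6, 0], [7, 5, 0, 7, 5, 1, 4, 6, 0, 4, 6, 1], [7, 5, 9, 7, 2, 8, 11, 0, 7, 8, 4, 2, 6, 0, 4, 10, 7, 8, 4, 1, 7, 2, 8, 4, 6, 9, 3, 6, 0, 5, 9, 6, 11, 5, 1, 7, 3, 5, 9, 6, 1, 10, 9, 3, 6, 8], [6, 4, 1, 7, 5, 0, 5, 7, 1, 4, 6, 0], [6, 4, 0, 7, 5, 1, 5, 7, 0, 4, 6, 1], [6, 4, 9, 7, 2, 8, 11, 0, 7, 8, 4, 2, 6, 0, 4, 10, 7, 8, 4, 1, 7, 2, 8, 5, 7, 9, 3, 6, 0, 5, 9, 6, 11, 5, 1, 7, 3, 5, 9, 6, 1, 10, 9, 3, 6, 8], [1, 7, 5, 0, 0, 7, 5,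 1, 1, 4, 6, 0, 0, 4, 6, 1], [1, 7, 5, 0, 9, 7, 2, 8, 11, 0, 7, 8, 4, 2, 6, 0, 4, 10, 7, 8, 4, 1, 7, 2, 8, 1, 4, 6, 0, 9, 3, 6, 0, 5, 9, 6, 11, 5, 1, 7, 3, 5, 9, 6, 1, 10, 9, 3, 6, 8], [0, 7, 5, 1, 9, 7, 2, 8, 11, 0, 7, 8, 4, 2, 6, 0, 4, 10, 7, 8, 4, 1, 7, 2, 8, 0, 4, 6, 1, 9, 3, 6, 0, 5, 9, 6, 11, 5, 1, 7, 3, 5, 9, 6, 1, 10, 9, 3, 6, 8]]

def um13_0 : Nat := nat_lit 0x2799f13a
def um13_1 : Nat := nat_lit 0xc85000084fe
def um13_2 : Nat := nat_lit 0xa4005a00b40085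
def um13_3 : Nat := nat_lit 0xc0208040b08020a
def um13_4 : Nat := nat_lit 0x3301122003012132
def um13_5 : Nat := nat_lit 0x1104114144101141
def um13_6 : Nat := nat_lit 0x1111110201100
def um13_7 : Nat := nat_lit 0x304050201
def um13_8 : Nat := nat_lit 0xb0001b00c40085
def um13_9 : Nat := nat_lit 0xc1900001a4c
def um13_10 : Nat := nat_lit 0x71917800
def un13 : Net := Net.cons 32 um13_0 (Net.cons 16 um13_1 (Net.cons 8 um13_2 (Net.cons 4 um13_3 (Net.cons 2 um13_4 (Net.cons 1 um13_5 (Net.cons 2 um13_6 (Net.cons 4 um13_7 (Net.cons 8 um13_8 (Net.cons 16 um13_9 (Net.cons 32 um13_10 (Net.nil)))))))))))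

def um14_0 : Nat := nat_lit 0x8c737632
def um14_1 : Nat := nat_lit 0x34d800004a27
def um14_2 : Nat := nat_lit 0x9d000100a0008a
def um14_3 : Nat := nat_lit 0x902080303040203
def um14_4 : Nat := nat_lit 0x231230120100222
def um14_5 : Nat := nat_lit 0x4405440441141511
def um14_6 : Nat := nat_lit 0x2000000010100010
def um14_7 : Nat := nat_lit 0x40c010808020400
def um14_8 : Nat := nat_lit 0x64004500940002
def um14_9 : Nat := nat_lit 0x3cc000001647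
def um14_10 : Nat := nat_lit 0xc8a46ef0
def un14 : Net := Net.cons 32 um14_0 (Net.cons 16 um14_1 (Net.cons 8 um14_2 (Net.cons 4 um14_3 (Net.cons 2 um14_4 (Net.cons 1 um14_5 (Net.cons 2 um14_6 (Net.cons 4 um14_7 (Net.cons 8 um14_8 (Net.cons 16 um14_9 (Net.cons 32 um14_10 (Net.nil)))))))))))

def M38 : Nat := nat_lit 0x7fffffffffffffff

def W44 : List (List Nat) := [[27], [29]]

def um15_0 : Nat := nat_lit 0x31220986
def um15_1 : Nat := nat_lit 0x5a8a000022fa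
def um15_2 : Nat := nat_lit 0x3400ca00300082
def um15_3 : Nat := nat_lit 0x601000208040507
def um15_4 : Nat := nat_lit 0x30103110131011
def um15_5 : Nat := nat_lit 0x104044114504114
def um15_6 : Nat := nat_lit 0x201020001001111
def um15_7 : Nat := nat_lit 0x2090801010a0001
def um15_8 : Nat := nat_lit 0x10001400e200e6
def um15_9 : Nat := nat_lit 0xaea0000d0a8
def um15_10 : Nat := nat_lit 0x470949fa
def un15 : Net := Net.cons 32 um15_0 (Net.cons 16 um15_1 (Net.cons 8 um15_2 (Net.cons 4 um15_3 (Net.cons 2 um15_4 (Net.cons 1 um15_5 (Net.cons 2 um15_6 (Net.cons 4 um15_7 (Net.cons 8 um15_8 (Net.cons 16 um15_9 (Net.cons 32 um15_10 (Net.nil)))))))))))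

def um16_0 : Nat := nat_lit 0x50aa2a62
def um16_1 : Nat := nat_lit 0x201600008bc9
def um16_2 : Nat := nat_lit 0x400c40026008d
def um16_3 : Nat := nat_lit 0x109080501080802
def um16_4 : Nat := nat_lit 0x11123213201313
def um16_5 : Nat := nat_lit 0x1450511515141451
def um16_6 : Nat := nat_lit 0x200000010000000
def um16_7 : Nat := nat_lit 0x201050201000701
def um16_8 : Nat := nat_lit 0xaa00000009
def um16_9 : Nat := nat_lit 0x6bd200004d05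
def um16_10 : Nat := nat_lit 0x7d23a05a
def un16 : Net := Net.cons 32 um16_0 (Net.cons 16 um16_1 (Net.cons 8 um16_2 (Net.cons 4 um16_3 (Net.cons 2 um16_4 (Net.cons 1 um16_5 (Net.cons 2 um16_6 (Net.cons 4 um16_7 (Net.cons 8 um16_8 (Net.cons 16 um16_9 (Net.cons 32 um16_10 (Net.nil)))))))))))

def M48 : Nat := nat_lit 0x53a8346b0d2f7be

def W54 : List (List Nat) := [[31], [33]]

def um17_0 : Nat := nat_lit 0xd5543
def um17_1 : Nat := nat_lit 0x80080000d3c2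
def um17_2 : Nat := nat_lit 0x820040001c0058
def um17_3 : Nat := nat_lit 0x805010500030000
def um17_4 : Nat := nat_lit 0x1131012111211121
def um17_5 : Nat := nat_lit 0x1001000444445014
def um17_6 : Nat := nat_lit 0x1001000111010001
def um17_7 : Nat := nat_lit 0x5010100010200
def um17_8 : Nat := nat_lit 0x820040009a006a
def um17_9 : Nat := nat_lit 0x800800001130
def um17_10 : Nat := nat_lit 0xd5543
def un17 : Net := Net.cons 32 um17_0 (Net.cons 16 um17_1 (Net.cons 8 um17_2 (Net.cons 4 um17_3 (Net.cons 2 um17_4 (Net.cons 1 um17_5 (Net.cons 2 um17_6 (Net.cons 4 um17_7 (Net.cons 8 um17_8 (Net.cons 16 um17_9 (Net.cons 32 um17_10 (Net.nil)))))))))))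

def um18_0 : Nat := nat_lit 0x25963906
def um18_1 : Nat := nat_lit 0x14f700005933
def um18_2 : Nat := nat_lit 0xaa00a2001400e1
def um18_3 : Nat := nat_lit 0xc0205060b04080c
def um18_4 : Nat := nat_lit 0x2102023022102011
def um18_5 : Nat := nat_lit 0x411444044140114
def um18_6 : Nat := nat_lit 0x10001020110
def um18_7 : Nat := nat_lit 0x101030300080908
def um18_8 : Nat := nat_lit 0x8200b200d20054
def um18_9 : Nat := nat_lit 0x283600001621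
def um18_10 : Nat := nat_lit 0x2c776306
def un18 : Net := Net.cons 32 um18_0 (Net.cons 16 um18_1 (Net.cons 8 um18_2 (Net.cons 4 um18_3 (Net.cons 2 um18_4 (Net.cons 1 um18_5 (Net.cons 2 um18_6 (Net.cons 4 um18_7 (Net.cons 8 um18_8 (Net.cons 16 um18_9 (Net.cons 32 um18_10 (Net.nil)))))))))))

def M58 : Nat := nat_lit 0x5020242804094b4

def W64 : List (List Nat) := [[35], [37]]

def um19_0 : Nat := nat_lit 0x7180000
def um19_1 : Nat := nat_lit 0xc0300000500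
def um19_2 : Nat := nat_lit 0xf00180000
def um19_3 : Nat := nat_lit 0x304090202000100
def um19_4 : Nat := nat_lit 0x301101202001100
def um19_5 : Nat := nat_lit 0x50141000004000
def um19_6 : Nat := nat_lit 0x101000001000
def um19_7 : Nat := nat_lit 0x304080202000100
def um19_8 : Nat := nat_lit 0xf00080000
def um19_9 : Nat := nat_lit 0xc0100000500
def um19_10 : Nat := nat_lit 0x5180000
def un19 : Net := Net.cons 32 um19_0 (Net.cons 16 um19_1 (Net.cons 8 um19_2 (Net.cons 4 um19_3 (Net.cons 2 um19_4 (Net.cons 1 um19_5 (Net.cons 2 um19_6 (Net.cons 4 um19_7 (Net.cons 8 um19_8 (Net.cons 16 um19_9 (Net.cons 32 um19_10 (Net.nil)))))))))))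

def um20_0 : Nat := nat_lit 0xbf188425
def um20_1 : Nat := nat_lit 0x987100009625
def um20_2 : Nat := nat_lit 0x20000300c00014
def um20_3 : Nat := nat_lit 0x8060902070e0004
def um20_4 : Nat := nat_lit 0x3102220001230100
def um20_5 : Nat := nat_lit 0x440401011400140
def um20_6 : Nat := nat_lit 0x110001000000110
def um20_7 : Nat := nat_lit 0x6080100040004
def um20_8 : Nat := nat_lit 0x200b80014
def um20_9 : Nat := nat_lit 0x88330000a224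
def um20_10 : Nat := nat_lit 0xcc418605
def un20 : Net := Net.cons 32 um20_0 (Net.cons 16 um20_1 (Net.cons 8 um20_2 (Net.cons 4 um20_3 (Net.cons 2 um20_4 (Net.cons 1 um20_5 (Net.cons 2 um20_6 (Net.cons 4 um20_7 (Net.cons 8 um20_8 (Net.cons 16 um20_9 (Net.cons 32 um20_10 (Net.nil)))))))))))

def M68 : Nat := nat_lit 0x5000000000094b0

def W74 : List (List Nat) := [[39], [41]]

def M76 : Nat := nat_lit 0x100000000008020

def W82 : List (List Nat) := [[39]]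

def M84 : Nat := nat_lit 0x400000000001000

def U : Tab := ⟨[n0, n1, n2, n3, n4, n5, n6, n7, un8, un9, un10, un11, un12, un13, un14, un15, un16, un17, un18, un19, un20], [⟨0, false, 0, 0, []⟩, ⟨0, false, 0, 0, []⟩, ⟨0, true, 0, 0, []⟩, ⟨1, false, 0, 0, []⟩, ⟨1, true, 0, 0, []⟩, ⟨2, false, 0, 0, []⟩, ⟨2, true, 0, 0, []⟩, ⟨3, false, 0, 0, []⟩, ⟨3, true, 0, 0, []⟩, ⟨4, false, 0, 0, []⟩, ⟨4, true, 0, 0, []⟩, ⟨5, false, 0, 0, []⟩, ⟨5, true, 0, 0, []⟩, ⟨6, false, 0, 0, []⟩, ⟨6, true, 0, 0, []⟩, ⟨7, false, 0, 0, []⟩, ⟨7, true, 0, 0, []⟩, ⟨8, false, 0, 0, []⟩, ⟨8, true, 0, 0, []⟩, ⟨9, false, 0, 0, []⟩, ⟨9, true, 0, 0, []⟩, ⟨10, false, 0, 0, []⟩, ⟨10, true, 0, 0, []⟩, ⟨11, false, 0, 0, []⟩, ⟨11, true, 0, 0, []⟩, ⟨12, false, 0, 0, []⟩, ⟨12, true, 0, 0, []⟩, ⟨13, false, 0, 0, []⟩, ⟨13, true, 0, 0, []⟩, ⟨14, false, 0, 0, []⟩, ⟨14, true, 0, 0, []⟩, ⟨15, false, 0, 0, []⟩, ⟨15,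 true, 0, 0, []⟩, ⟨16, false, 0, 0, []⟩, ⟨16, true, 0, 0, []⟩, ⟨17, false, 0, 0, []⟩, ⟨17, true, 0, 0, []⟩, ⟨18, false, 0, 0, []⟩, ⟨18, true, 0, 0, []⟩, ⟨19, false, 0, 0, []⟩, ⟨19, true, 0, 0, []⟩, ⟨20, false, 0, 0, []⟩, ⟨20, true, 0, 0, []⟩]⟩

end Cfsg.Agent.Spor.C3Sa.L
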